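import Groth.Agent.CubeConsLib.Defect2
import Groth.Agent.CubeConsLib.Invariant
import Groth.Prelude.Def_Pic13

/-!
A class algebraically equivalent to zero on an abelian variety is additive.
-/

set_option autoImplicit false
set_option maxHeartbeats 1000000
set_option maxRecDepth 8000
set_option backward.isDefEq.respectTransparency false
set_option linter.style.haveILetI false

universe u

open CategoryTheory MonoidalCategory CartesianMonoidalCategory MonObj AlgebraicGeometry
open CubeConsLib

namespace AVVanishLib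

variable {K : Type u} [Field K] {A : Over (Spec (CommRingCat.of K))} [GrpObj A] [IsProper A.hom]
  [GeometricallyIntegral A.hom] {M : A.left.Modules} {hM : PicF.IsInvertible M}

/-- The slice at a rational point of the base. -/
noncomputable def slice (X : Over (Spec (CommRingCat.of K))) {T : Scheme.{u}} (q : T ⟶ Spec (CommRingCat.of K))
    (t : Spec (CommRingCat.of K) ⟶ T) (ht : t ≫ q = 𝟙 _) : X.left ⟶ PicF.XT X.hom (Over.mk q) :=
  Limits.pullback.lift (𝟙 X.left) (X.hom ≫ t) (by
    show 𝟙 X.left ≫ X.hom = (X.hom ≫ t) ≫ q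
    rw [Category.id_comp, Category.assoc, ht, Category.comp_id])

theorem slice_fst (X : Over (Spec (CommRingCat.of K))) {T : Scheme.{u}} (q : T ⟶ Spec (CommRingCat.of K))
    (t : Spec (CommRingCat.of K) ⟶ T) (ht : t ≫ q = 𝟙 _) :
    slice X q t ht ≫ Limits.pullback.fst X.hom (Over.mk q).hom = 𝟙 X.left :=
  Limits.pullback.lift_fst _ _ _

theorem slice_snd (X : Over (Spec (CommRingCat.of K))) {T : Scheme.{u}} (q : T ⟶ Spec (CommRingCat.of K))
    (t : Spec (CommRingCat.of K) ⟶ T) (ht : t ≫ q = 𝟙 _) :
    slice X q t ht ≫ Limits.pullback.snd X.hom (Over.mk q).hom = X.hom ≫ t :=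
  Limits.pullback.lift_snd _ _ _

theorem slice_bcMap {X Y : Over (Spec (CommRingCat.of K))} (f : X ⟶ Y) {T : Scheme.{u}}
    (q : T ⟶ Spec (CommRingCat.of K)) (t : Spec (CommRingCat.of K) ⟶ T) (ht : t ≫ q = 𝟙 _) :
    slice X q t ht ≫ AbDual.bcMap f (Over.mk q) = f.left ≫ slice Y q t ht := by
  apply Limits.pullback.hom_ext
  · rw [Category.assoc, bcMap_fst, Category.assoc]
    simp only [slice, Limits.pullback.lift_fst, Limits.pullback.lift_fst_assoc, Category.id_comp, Category.comp_id]
  · rw [Category.assoc, bcMap_snd, Category.assoc]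
    simp only [slice, Limits.pullback.lift_snd, Over.w_assoc]

/-- Algebraic equivalence to zero implies additivity. -/
theorem isAdditive_of_isAlgEquivZero (h : Pic13.IsAlgEquivZero K A.left M) : IsAdditive hM := by
  haveI : LocallyOfFinitePresentation A.hom := LocallyOfFinitePresentation.iff_locallyOfFiniteType.2 inferInstance
  haveI : Flat A.hom := inferInstance
  obtain ⟨T, q, hconn, -, -, N, hN, t, t₀, ht, ht₀, ⟨e⟩, ⟨e₀⟩⟩ := h
  let T' : Over (Spec (CommRingCat.of K)) := Over.mk q
  haveI : ConnectedSpace T'.left := hconn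
  let N' : (PicF.XT A.hom T').Modules := N
  have hN' : PicF.IsInvertible N' := hN
  have hpull : ∀ (p : Spec (CommRingCat.of K) ⟶ T) (hp : p ≫ q = 𝟙 _) {L : A.left.Modules}
      (hL : PicF.IsInvertible L), pullA (slice A q p hp) (clA hN') = clA hL →
      pullA (slice (A ⊗ A) q p hp) (defect A T' hN') =
        P hL (fst A A * snd A A) - P hL (fst A A) - P hL (snd A A) + P hL (1 : A ⊗ A ⟶ A) := by
    intro p hp L hL e
    have hb : ∀ f : A ⊗ A ⟶ A, pullA (slice (A ⊗ A) q p hp) (pullA (AbDual.bcMap f T') (clA hN')) = P hL f :=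
      fun f => by rw [pullA_comp, slice_bcMap, ← pullA_comp, e]; rfl
    simp only [defect, map_add, map_sub, hb]
  have e₀' : pullA (slice A q t₀ ht₀) (clA hN') = clA (isInvertible_one A.left) := by
    rw [pullA_clA, clA_eq_iff]
    exact ⟨e₀⟩
  have et : pullA (slice A q t ht) (clA hN') = clA hM := by
    rw [pullA_clA, clA_eq_iff]
    exact ⟨e⟩
  have h0 : pullA (slice (A ⊗ A) q t₀ ht₀) (defect A T' hN') = 0 := by
    rw [hpull t₀ ht₀ _ e₀', P, P, P, P, clA_one, map_zero, map_zero, map_zero, map_zero]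
    abel
  have hd : defect A T' hN' = 0 := by
    refine defect_eq_zero_of_connected A T' hN' (t₀ (IsLocalRing.closedPoint K)) ?_
    let π := PicF.XTproj (A ⊗ A).hom T'
    let w := t₀ (IsLocalRing.closedPoint K)
    let iw := π.fiberι w
    have hw : iw ≫ π = π.fiberToSpecResidueField w ≫ (T.fromSpecResidueField w ≫ q) ≫ t₀ :=
      (π.fiber_fac w).trans (congrArg (π.fiberToSpecResidueField w ≫ ·) (fromSpecResidueField_closedPoint q t₀ ht₀))
    have hq : iw ≫ π ≫ q = π.fiberToSpecResidueField w ≫ T.fromSpecResidueField w ≫ q :=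
      (Category.assoc _ _ _).symm.trans ((congrArg (· ≫ q) (π.fiber_fac w)).trans (Category.assoc _ _ _))
    have hl : iw = (iw ≫ Limits.pullback.fst (A ⊗ A).hom T'.hom) ≫ slice (A ⊗ A) q t₀ ht₀ := by
      apply Limits.pullback.hom_ext
      · exact ((Category.assoc _ _ _).trans ((congrArg (_ ≫ ·) (slice_fst (A ⊗ A) q t₀ ht₀)).trans
          (Category.comp_id _))).symm
      · refine Eq.trans ?_ ((Category.assoc _ _ _).trans (congrArg (_ ≫ ·) (slice_snd (A ⊗ A) q t₀ ht₀))).symm
        refine Eq.trans ?_ (Category.assoc _ _ _).symm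
        refine Eq.trans ?_ (congrArg (iw ≫ ·) ((congrArg (· ≫ t₀) (Limits.pullback.condition
          (f := (A ⊗ A).hom) (g := T'.hom))).symm.trans (Category.assoc _ _ _)))
        show iw ≫ π = iw ≫ (π ≫ q) ≫ t₀
        rw [← Category.assoc iw, hq, hw]
        simp only [Category.assoc]
    show pullA iw _ = 0
    rw [hl, ← pullA_comp, h0, map_zero]
  have := congrArg (pullA (slice (A ⊗ A) q t ht)) hd
  rw [map_zero, hpull t ht hM et, P_zero, add_zero, sub_sub, sub_eq_zero] at this
  exact this

end AVVanishLib
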