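import Groth.Agent.AVVanishLib.Family
import Groth.Agent.AVAmpleLib.Translate

/-!
Surjectivity of `φ_L` onto translation invariant classes for non-degenerate `L`.
-/

set_option autoImplicit false
set_option maxHeartbeats 1000000
set_option backward.isDefEq.respectTransparency false
set_option linter.style.haveILetI false

universe u

open CategoryTheory CategoryTheory.Limits MonoidalCategory CartesianMonoidalCategory MonObj AlgebraicGeometry
open TopologicalSpace
open CubeConsLib

namespace AVVanishLib

variable {K : Type u} [Field K] [IsAlgClosed K] {A : Over (Spec (CommRingCat.of K))} [GrpObj A]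
  [IsProper A.hom] [GeometricallyIntegral A.hom]

local notation "Pt" => 𝟙_ (Over (Spec (CommRingCat.of K))) ⟶ A
local notation "τ" a:max => AVAmpleLib.tR a

/-- The point at a closed point. -/
noncomputable def ptOf (y : A.left) (hy : IsClosed ({y} : Set A.left)) : Pt :=
  Over.homMk (pointOfClosedPoint A.hom y hy) (pointOfClosedPoint_comp A.hom y hy)

omit [GrpObj A] [GeometricallyIntegral A.hom] in
theorem exists_factor (y : A.left) (hy : IsClosed ({y} : Set A.left)) :
    A.left.fromSpecResidueField y = (A.left.fromSpecResidueField y ≫ A.hom) ≫ (ptOf y hy).left ∧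
    ∃ c : A.left ⟶ Spec (A.left.residueField y), A.hom ≫ (ptOf y hy).left = c ≫ A.left.fromSpecResidueField y := by
  refine ⟨?_, A.hom ≫ Spec.map (residueFieldIsoBase A.hom y hy).hom, (Category.assoc _ _ _).symm⟩
  show _ = _ ≫ pointOfClosedPoint A.hom y hy
  rw [pointOfClosedPoint, ← SpecMap_residueFieldIsoBase_inv A.hom y hy, ← Category.assoc, ← Spec.map_comp,
    Iso.hom_inv_id, Spec.map_id, Category.id_comp]

/-- The vertical copy of `A` over the point `a` of the second factor. -/
noncomputable abbrev jq (a : Pt) : A ⟶ A ⊗ A := lift (𝟙 A) (toUnit A ≫ a)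

/-- The copy of `A` over the point `a` of the first factor. -/
noncomputable abbrev jp (a : Pt) : A ⟶ A ⊗ A := lift (toUnit A ≫ a) (𝟙 A)

omit [GeometricallyIntegral A.hom] in
theorem subsingleton_fiberH_snd_iff (F : (A ⊗ A).left.Modules) (y : A.left) (hy : IsClosed ({y} : Set A.left))
    (i : ℕ) : Subsingleton (CohIII.fiberH (snd A A).left F y i) ↔
      Subsingleton (Coh.HH A.left ((Scheme.Modules.pullback (jq (ptOf y hy)).left).obj F) i) := by
  obtain ⟨ha, c, hc⟩ := exists_factor y hy
  refine subsingleton_fiberH_iff_of_section (snd A A).left y F (jq (ptOf y hy)).left (fst A A).left c ?_ ?_ ?_ i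
  · rw [← Over.comp_left, lift_snd, Over.comp_left]
    exact hc
  · rw [← Over.comp_left, lift_fst]
    rfl
  · let q := (snd A A).left
    let p := (fst A A).left
    let iy := q.fiberι y
    refine Over.tensorObj_ext _ _ ?_ ?_
    · show (iy ≫ p ≫ (jq (ptOf y hy)).left) ≫ p = iy ≫ p
      rw [Category.assoc, Category.assoc, ← Over.comp_left, lift_fst, Over.id_left, Category.comp_id]
    · show (iy ≫ p ≫ (jq (ptOf y hy)).left) ≫ q = iy ≫ q
      rw [Category.assoc, Category.assoc, ← Over.comp_left, lift_snd, Over.comp_left]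
      show iy ≫ p ≫ A.hom ≫ (ptOf y hy).left = iy ≫ q
      have hw : p ≫ A.hom = q ≫ A.hom := (Over.w (fst A A)).trans (Over.w (snd A A)).symm
      have hiy : iy ≫ q = q.fiberToSpecResidueField y ≫ A.left.fromSpecResidueField y := Limits.pullback.condition
      rw [← Category.assoc p, hw, Category.assoc, ← Category.assoc iy q, hiy]
      exact (Category.assoc _ _ _).trans ((congrArg (q.fiberToSpecResidueField y ≫ ·) ha).trans
        (by simp only [Category.assoc])).symm

omit [GeometricallyIntegral A.hom] in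
theorem subsingleton_fiberH_fst_iff (F : (A ⊗ A).left.Modules) (y : A.left) (hy : IsClosed ({y} : Set A.left))
    (i : ℕ) : Subsingleton (CohIII.fiberH (fst A A).left F y i) ↔
      Subsingleton (Coh.HH A.left ((Scheme.Modules.pullback (jp (ptOf y hy)).left).obj F) i) := by
  obtain ⟨ha, c, hc⟩ := exists_factor y hy
  refine subsingleton_fiberH_iff_of_section (fst A A).left y F (jp (ptOf y hy)).left (snd A A).left c ?_ ?_ ?_ i
  · rw [← Over.comp_left, lift_fst, Over.comp_left]
    exact hc
  · rw [← Over.comp_left, lift_snd]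
    rfl
  · let q := (snd A A).left
    let p := (fst A A).left
    let iy := p.fiberι y
    refine Over.tensorObj_ext _ _ ?_ ?_
    · show (iy ≫ q ≫ (jp (ptOf y hy)).left) ≫ p = iy ≫ p
      rw [Category.assoc, Category.assoc, ← Over.comp_left, lift_fst, Over.comp_left]
      show iy ≫ q ≫ A.hom ≫ (ptOf y hy).left = iy ≫ p
      have hw : q ≫ A.hom = p ≫ A.hom := (Over.w (snd A A)).trans (Over.w (fst A A)).symm
      have hiy : iy ≫ p = p.fiberToSpecResidueField y ≫ A.left.fromSpecResidueField y := Limits.pullback.condition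
      rw [← Category.assoc q, hw, Category.assoc, ← Category.assoc iy p, hiy]
      exact (Category.assoc _ _ _).trans ((congrArg (p.fiberToSpecResidueField y ≫ ·) ha).trans
        (by simp only [Category.assoc])).symm
    · show (iy ≫ q ≫ (jp (ptOf y hy)).left) ≫ q = iy ≫ q
      rw [Category.assoc, Category.assoc, ← Over.comp_left, lift_snd, Over.id_left, Category.comp_id]

variable {L M : A.left.Modules} {hL : PicF.IsInvertible L} {hM : PicF.IsInvertible M}

omit [IsAlgClosed K] in
/-- The theorem of the square: translates differ by an additive class. -/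
theorem isAdditive_phi (a : Pt) {N : A.left.Modules} {hN : PicF.IsInvertible N}
    (h : clA hN = P hL (τ a) - clA hL) : IsAdditive hN := by
  have hP : ∀ {V : Over (Spec (CommRingCat.of K))} (f : V ⟶ A),
      P hN f = P hL (f * (toUnit V ≫ a)) - P hL f := fun f => by
    rw [P, h, map_sub, pullA_P, ← P_id hL, pullA_P, Category.comp_id, MonObj.comp_mul, Category.comp_id,
      ← Category.assoc, toUnit_unique (f ≫ toUnit A) (toUnit _)]
  have hc := cube_field hL (fst A A) (snd A A) (toUnit (A ⊗ A) ≫ a)
  rw [P_const hL, add_zero] at hc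
  rw [IsAdditive, hP, hP, hP]
  refine sub_eq_zero.1 ?_
  rw [← sub_eq_zero] at hc
  rw [← hc]
  abel

omit [IsAlgClosed K] in
theorem isAdditive_sub {N : A.left.Modules} {hN : PicF.IsInvertible N} {L' : A.left.Modules}
    {hL' : PicF.IsInvertible L'} (h₁ : IsAdditive hL') (h₂ : IsAdditive hM)
    (h : clA hN = clA hL' - clA hM) : IsAdditive hN := by
  have hP : ∀ {V : Over (Spec (CommRingCat.of K))} (f : V ⟶ A), P hN f = P hL' f - P hM f := fun f => by
    rw [P, h, map_sub]
    rfl
  rw [IsAdditive, hP, hP, hP, h₁, h₂]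
  abel

omit [GeometricallyIntegral A.hom] [IsProper A.hom] [GrpObj A] [IsAlgClosed K] in
theorem exists_clA_sub {L₁ L₂ : A.left.Modules} (h₁ : PicF.IsInvertible L₁) (h₂ : PicF.IsInvertible L₂) :
    ∃ (N : A.left.Modules) (hN : PicF.IsInvertible N), clA hN = clA h₁ - clA h₂ :=
  ⟨_, HilbPolyLib.isInvertible_tensor h₁ (MiscFlat6.dual_isInvertible h₂), by
    rw [clA_tensor h₁ (MiscFlat6.dual_isInvertible h₂), clA_dual h₂, sub_eq_add_neg]⟩

theorem not_subsingleton_HH_one : ¬ Subsingleton (Coh.HH A.left (Coh.structureModule A.left) 0) := fun h0 => by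
  haveI : IsIntegral A.left := GeometricallyIntegral.isIntegral_of_subsingleton A.hom
  haveI := ((KFlatLib.unitSecEquiv (Coh.structureModule A.left)).symm.subsingleton_congr).2
    ((subsingleton_HH_zero_iff _).1 h0)
  haveI : Subsingleton Γ(A.left, ⊤) := ‹Subsingleton Γ(Coh.structureModule A.left, ⊤)›
  exact false_of_nontrivial_of_subsingleton Γ(A.left, ⊤)

/-- A translation invariant class is `t_a^*L - L` for non-degenerate `L`. -/
theorem exists_phi_eq (haddM : IsAdditive hM) (hnd : Set.Finite {a : Pt | P hL (τ a) = clA hL}) :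
    ∃ a : Pt, clA hM = P hL (τ a) - clA hL := by
  by_contra hne
  haveI := isCommMonObj_field (A := A)
  haveI : LocallyOfFinitePresentation A.hom := LocallyOfFinitePresentation.iff_locallyOfFiniteType.2 inferInstance
  haveI : Flat A.hom := inferInstance
  haveI : IsLocallyNoetherian A.left := LocallyOfFiniteType.isLocallyNoetherian A.hom
  haveI : CompactSpace A.left := QuasiCompact.compactSpace_of_compactSpace A.hom
  haveI : IsNoetherian A.left := {}
  haveI : JacobsonSpace A.left := LocallyOfFiniteType.jacobsonSpace A.hom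
  let p := (fst A A).left
  let q := (snd A A).left
  have hsq : IsPullback p q A.hom A.hom := IsPullback.of_hasPullback A.hom A.hom
  haveI : IsProper p := MorphismProperty.of_isPullback hsq.flip ‹_›
  haveI : IsProper q := MorphismProperty.of_isPullback hsq ‹_›
  haveI : Flat p := MorphismProperty.of_isPullback hsq.flip ‹_›
  haveI : Flat q := MorphismProperty.of_isPullback hsq ‹_›
  haveI : LocallyOfFinitePresentation p := MorphismProperty.of_isPullback hsq.flip ‹_›
  haveI : LocallyOfFinitePresentation q := MorphismProperty.of_isPullback hsq ‹_›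
  haveI : IsLocallyNoetherian (A ⊗ A).left := LocallyOfFiniteType.isLocallyNoetherian p
  have hμ := AmpleDevLib.isInvertible_pb (fst A A * snd A A).left hL
  have h₁ := AmpleDevLib.isInvertible_pb (fst A A).left hL
  have h₂ := AmpleDevLib.isInvertible_pb (snd A A).left hL
  have h₃ := AmpleDevLib.isInvertible_pb (fst A A).left hM
  have hd₁ := HilbPolyLib.isInvertible_tensor hμ (MiscFlat6.dual_isInvertible h₁)
  have hd₂ := HilbPolyLib.isInvertible_tensor hd₁ (MiscFlat6.dual_isInvertible h₂)
  obtain ⟨F, hF, cF⟩ : ∃ (F : (A ⊗ A).left.Modules) (hF : PicF.IsInvertible F),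
      clA hF = P hL (fst A A * snd A A) - P hL (fst A A) - P hL (snd A A) - P hM (fst A A) :=
    ⟨_, HilbPolyLib.isInvertible_tensor hd₂ (MiscFlat6.dual_isInvertible h₃), by
      rw [clA_tensor hd₂ (MiscFlat6.dual_isInvertible h₃), clA_tensor hd₁ (MiscFlat6.dual_isInvertible h₂),
        clA_tensor hμ (MiscFlat6.dual_isInvertible h₁), clA_dual h₁, clA_dual h₂, clA_dual h₃,
        P_eq hL, P_eq hL, P_eq hL, P_eq hM]
      abel⟩
  obtain ⟨_, hfp, hflp⟩ := CohCmpLib.rank_one_hyps p ((CohCmpLib.invertible_iff_rank_one F).1 hF)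
  obtain ⟨_, -, hflq⟩ := CohCmpLib.rank_one_hyps q ((CohCmpLib.invertible_iff_rank_one F).1 hF)
  -- the two families of fibres
  have hjq : ∀ a : Pt, pullA (jq a).left (clA hF) = P hL (τ a) - clA hL - clA hM := fun a => by
    rw [cF, map_sub, map_sub, map_sub, pullA_P, pullA_P, pullA_P, pullA_P, MonObj.comp_mul, lift_fst, lift_snd,
      P_const hL, sub_zero, P_id, P_id]
  have hjp : ∀ a : Pt, pullA (jp a).left (clA hF) = P hL (τ a) - clA hL := fun a => by
    rw [cF, map_sub, map_sub, map_sub, pullA_P, pullA_P, pullA_P, pullA_P, MonObj.comp_mul, lift_fst, lift_snd,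
      P_const hL, P_const hM, sub_zero, sub_zero, P_id, _root_.mul_comm]
  have hfibq : ∀ y : A.left, IsClosed ({y} : Set A.left) → ∀ i, Subsingleton (CohIII.fiberH q F y i) := by
    intro y hy i
    let a := ptOf y hy
    rw [subsingleton_fiberH_snd_iff F y hy i]
    obtain ⟨Na, hNa, cNa⟩ := exists_clA_sub (AmpleDevLib.isInvertible_pb (τ a).left hL) hL
    have hadda : IsAdditive hNa := isAdditive_phi (hL := hL) a (by rw [cNa, P_eq])
    have hpa := AmpleDevLib.isInvertible_pb (jq a).left hF
    have ec : clA hpa = clA hNa - clA hM := by rw [← pullA_clA _ hF, hjq, cNa, P_eq]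
    refine subsingleton_HH (hM := hpa) (isAdditive_sub hadda haddM ec) (fun ⟨e⟩ => hne ⟨a, ?_⟩) i
    have e' := (clA_eq_iff hpa (isInvertible_one _)).2 ⟨e⟩
    rw [clA_one, ← pullA_clA _ hF, hjq, sub_eq_zero] at e'
    exact e'.symm
  have htot : ∀ n, Subsingleton (Coh.HH (A ⊗ A).left F n) := subsingleton_HH_of_closedFibres hfp hflq hfibq
  let Z : Set A.left := {y | ∃ hy : IsClosed ({y} : Set A.left), P hL (τ (ptOf y hy)) = clA hL}
  have hZc : ∀ y ∈ Z, IsClosed ({y} : Set A.left) := fun y hy => hy.1
  have hZ : Z.Finite := (hnd.image fun a : Pt => AVAmpleLib.pt a).subset fun y ⟨hy, h⟩ =>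
    ⟨ptOf y hy, h, pointOfClosedPoint_apply A.hom y hy _⟩
  have hout : ∀ y, y ∉ Z → ∀ i, Subsingleton (CohIII.fiberH p F y i) := by
    intro y hyZ i
    let C : Set A.left := {s | Subsingleton (CohIII.fiberH p F s i)}ᶜ
    have hC : IsClosed C := (CohCmpLib.isOpen_fibre_vanishing hfp hflp i).isClosed_compl
    have hZcl : IsClosed Z := by
      have e : Z = ⋃ y ∈ Z, ({y} : Set A.left) := by simp
      rw [e]; exact hZ.isClosed_biUnion fun y hy => hZc y hy
    by_contra hs
    obtain ⟨z, ⟨hzC, hzZ⟩, hz⟩ := nonempty_inter_closedPoints (Z := C ∩ Zᶜ) ⟨y, hs, hyZ⟩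
      (hC.isLocallyClosed.inter hZcl.isOpen_compl.isLocallyClosed)
    refine hzC ((subsingleton_fiberH_fst_iff F z hz i).2 ?_)
    let a := ptOf z hz
    have hpa := AmpleDevLib.isInvertible_pb (jp a).left hF
    have ec : clA hpa = P hL (τ a) - clA hL := by rw [← pullA_clA _ hF, hjp]
    refine subsingleton_HH (hM := hpa) (isAdditive_phi a ec) (fun ⟨e⟩ => hzZ ⟨hz, ?_⟩) i
    have e' := (clA_eq_iff hpa (isInvertible_one _)).2 ⟨e⟩
    rwa [clA_one, ← pullA_clA _ hF, hjp, sub_eq_zero] at e'
  let o : A.left := AVAmpleLib.pt (1 : Pt)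
  have ho : IsClosed ({o} : Set A.left) :=
    ((pointEquivClosedPoint A.hom) ⟨(1 : Pt).left, Over.w _⟩).2
  have hone : ptOf o ho = (1 : Pt) := Over.OverMorphism.ext (ext_of_apply_closedPoint_eq A.hom
    (pointOfClosedPoint_comp _ _ _) (Over.w (1 : Pt)) (pointOfClosedPoint_apply A.hom o ho _))
  have hfib := (subsingleton_fiberH_fst_iff F o ho 0).1
    (subsingleton_fiberH_of_finite hfp hflp hZ hZc hout htot o 0)
  have hpo := AmpleDevLib.isInvertible_pb (jp (ptOf o ho)).left hF
  obtain ⟨e⟩ : Nonempty (Coh.structureModule A.left ≅ (Scheme.Modules.pullback (jp (ptOf o ho)).left).obj F) := by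
    rw [← clA_eq_iff (isInvertible_one _) hpo, clA_one, ← pullA_clA _ hF, hjp, hone]
    rw [AVAmpleLib.tR_one, P_id, sub_self]
  exact not_subsingleton_HH_one (A := A) (SerreVanLib.subsingleton_HH_of_iso e 0 hfib)

end AVVanishLib
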