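import Groth.Agent.AVVanishLib.Basic
import Groth.Agent.CohCmpLib.FibreRowsBC
import Groth.Agent.CurvLib.Finite0
import Groth.Agent.CurvLib.SupportVanish
import Groth.Agent.S0494
import Groth.Agent.S0036

/-!
Flat proper families whose fibres have no cohomology away from finitely many points.
-/

set_option autoImplicit false
set_option maxHeartbeats 1000000
set_option maxRecDepth 8000
set_option backward.isDefEq.respectTransparency false
set_option linter.style.haveILetI false

universe u

open CategoryTheory CategoryTheory.Limits AlgebraicGeometry TopologicalSpace Opposite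

namespace AVVanishLib

theorem subsingleton_sec_of_isZero {X : Scheme.{u}} {G : X.Modules} (h : IsZero G) (V : X.Opens) :
    Subsingleton Γ(G, V) := by
  rw [IsZero.iff_id_eq_zero] at h
  exact subsingleton_of_forall_eq 0 fun z => congr(Scheme.Modules.Hom.app $h V z)

theorem subsingleton_stalk_of_isZero_restrict {X : Scheme.{u}} (M : X.Modules) {U : X.Opens}
    (h : IsZero (M.restrict U.ι)) {x : X} (hx : x ∈ U) : Subsingleton (M.presheaf.stalk x) := by
  refine subsingleton_of_forall_eq 0 fun z => ?_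
  obtain ⟨V, hxV, s, rfl⟩ := TopCat.Presheaf.exists_germ_eq M.presheaf z
  have hle : U.ι ''ᵁ (U.ι ⁻¹ᵁ V) ≤ V := Scheme.Hom.image_preimage_le _ _
  haveI : Subsingleton Γ(M, U.ι ''ᵁ (U.ι ⁻¹ᵁ V)) := subsingleton_sec_of_isZero h _
  have hx' : x ∈ U.ι ''ᵁ (U.ι ⁻¹ᵁ V) := ⟨⟨x, hx⟩, hxV, rfl⟩
  rw [← TopCat.Presheaf.germ_res_apply M.presheaf (homOfLE hle) x hx' s]
  exact (congrArg (M.presheaf.germ _ x hx') (Subsingleton.elim _ 0)).trans (map_zero _)

theorem support_subset_of_isZero_nhds {X : Scheme.{u}} (M : X.Modules) {Z : Set X}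
    (h : ∀ x, x ∉ Z → ∃ U : X.Opens, x ∈ U ∧ IsZero (M.restrict U.ι)) : CohB1.support M ⊆ Z := fun x hx => by
  by_contra hxZ
  obtain ⟨U, hxU, hU⟩ := h x hxZ
  exact hx (subsingleton_stalk_of_isZero_restrict M hU hxU)

theorem topologicalKrullDim_le_zero_of_finite {X : Type u} [TopologicalSpace X] {Z : Set X} (hZ : Z.Finite)
    (hZc : ∀ x ∈ Z, IsClosed ({x} : Set X)) : topologicalKrullDim Z ≤ 0 := by
  haveI : Finite Z := hZ.to_subtype
  haveI : T1Space Z := ⟨fun x => by
    have h : ({x} : Set Z) = Subtype.val ⁻¹' ({(x : X)} : Set X) := by ext y; exact Subtype.ext_iff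
    rw [h]
    exact (hZc _ x.2).preimage continuous_subtype_val⟩
  exact topologicalKrullDim_zero_of_discreteTopology _

theorem isZero_of_finite_support {X : Scheme.{u}} (M : X.Modules) {Z : Set X} (hZ : Z.Finite)
    (hZc : ∀ x ∈ Z, IsClosed ({x} : Set X)) (hM : CohB1.support M ⊆ Z) (h : Subsingleton Γ(M, ⊤)) :
    IsZero M := by
  refine DevissLib.isZero_of_support_empty (Set.eq_empty_of_forall_notMem fun x hx => ?_)
  obtain ⟨a, ha⟩ := (DevissLib.mem_support_iff_nonzero M x).mp hx
  obtain ⟨s, hs⟩ := CurvLib.surjective_germ_of_finite_support M hZ hZc hM x a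
  exact ha (by rw [← hs, Subsingleton.elim s 0]; exact map_zero (M.presheaf.germ (⊤ : X.Opens) x trivial).hom)

variable {X S : Scheme.{u}} {f : X ⟶ S} {F : X.Modules}

/-- Transfer between the two models of the higher direct image. -/
theorem subsingleton_H_rpushAb [HasInjectiveResolutions X.Modules] (q p : ℕ)
    (h : Subsingleton (Coh.HH S ((Coh.Rpush f q).obj F) p)) :
    Subsingleton (CohTop.H ((CohTop.Rpush f.base q).obj (Coh.toAb F)) p) := by
  obtain ⟨e⟩ := RpushLib.nonempty_toAb_rpush_iso f F q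
  haveI := h
  exact Function.Injective.subsingleton (f := Sheaf.H.map e.inv p) fun a b hab => by
    have := congrArg (Sheaf.H.map e.hom p) hab
    rw [← Sheaf.H.map_comp_apply, ← Sheaf.H.map_comp_apply, e.inv_hom_id, Sheaf.H.map_id_apply,
      Sheaf.H.map_id_apply] at this
    exact this

/-- All higher direct images vanish, so does the cohomology of the total space. -/
theorem subsingleton_HH_of_rpush_zero [HasInjectiveResolutions X.Modules]
    (h : ∀ i, IsZero ((Coh.Rpush f i).obj F)) (n : ℕ) : Subsingleton (Coh.HH X F n) :=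
  LerayLowLib.subsingleton_H_of_antidiagonal f.base (Coh.toAb F) n fun p i _ =>
    subsingleton_H_of_isZero (rpushAb_isZero f F i (h i)) p

variable [IsProper f] [LocallyOfFinitePresentation f] [Coh.IsQCoh F]

/-- Vanishing of all higher direct images forces the vanishing of the cohomology of all fibres. -/
theorem subsingleton_fiberH_of_rpush_zero (hfp : CohB1.IsFP F) (hfl : FlatMod.IsFlatOver f F)
    [HasInjectiveResolutions X.Modules]
    (h : ∀ i, IsZero ((Coh.Rpush f i).obj F)) (s : S) (p : ℕ) : Subsingleton (CohIII.fiberH f F s p) := by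
  obtain ⟨Δ, ⟨E⟩⟩ := CohCmpLib.exists_sectCmp f
  obtain ⟨W, K, hW, hsW⟩ := CohCmpLib.exists_chart_at hfp hfl s
  have hsub : ∀ i, Subsingleton Γ((Coh.Rpush f i).obj F, W) := fun i => subsingleton_sec_of_isZero (h i) W
  have hfla : K.FlAt (p + 1) (le_refl W) := K.flAt_of_flat_above E hW le_rfl p (fun i _ => by
    haveI := hsub i
    infer_instance) (p + 1) (Nat.lt_succ_self p)
  refine K.subsingleton_fiberH hW le_rfl p hfla ?_ hsW
  let := K.alg (le_refl W)
  obtain ⟨e⟩ := K.nonempty_secEquiv E hW le_rfl p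
  haveI := hsub p
  first
    | exact e.toEquiv.subsingleton
    | exact e.symm.toEquiv.subsingleton

/-- Vanishing of the fibre cohomology at the closed points kills the cohomology of the total space. -/
theorem subsingleton_HH_of_closedFibres (hfp : CohB1.IsFP F) (hfl : FlatMod.IsFlatOver f F) [JacobsonSpace S]
    (h : ∀ s : S, IsClosed ({s} : Set S) → ∀ i, Subsingleton (CohIII.fiberH f F s i)) (n : ℕ) :
    Subsingleton (Coh.HH X F n) := by
  haveI : HasInjectiveResolutions X.Modules := inferInstance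
  refine subsingleton_HH_of_rpush_zero (fun i => CohCmpLib.isZero_rpush_of_fibre hfp hfl i fun s => ?_) n
  let C : Set S := {s : S | Subsingleton (CohIII.fiberH f F s i)}ᶜ
  have hC : IsClosed C := (CohCmpLib.isOpen_fibre_vanishing hfp hfl i).isClosed_compl
  by_contra hs
  obtain ⟨z, hzC, hz⟩ := nonempty_inter_closedPoints ⟨s, hs⟩ hC.isLocallyClosed
  exact hzC (h z hz i)

/-- A family without cohomology, all but finitely many of whose fibres have none, has none in any fibre. -/
theorem subsingleton_fiberH_of_finite [IsLocallyNoetherian X] [IsLocallyNoetherian S] [NoetherianSpace S]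
    (hfp : CohB1.IsFP F) (hfl : FlatMod.IsFlatOver f F) {Z : Set S} (hZ : Z.Finite)
    (hZc : ∀ s ∈ Z, IsClosed ({s} : Set S))
    (hout : ∀ s, s ∉ Z → ∀ i, Subsingleton (CohIII.fiberH f F s i))
    (htot : ∀ n, Subsingleton (Coh.HH X F n)) (s : S) (p : ℕ) : Subsingleton (CohIII.fiberH f F s p) := by
  haveI : HasInjectiveResolutions X.Modules := inferInstance
  have hsupp : ∀ i, CohB1.support ((Coh.Rpush f i).obj F) ⊆ Z := fun i =>
    support_subset_of_isZero_nhds _ fun x hx => CohCmpLib.exists_vanishing_nhd_at hfp hfl i x (hout x hx i)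
  have hT : IsClosed Z := by
    have e : Z = ⋃ y ∈ Z, ({y} : Set S) := by simp
    rw [e]; exact hZ.isClosed_biUnion fun y hy => hZc y hy
  have hhigh : ∀ i q, Subsingleton (CohTop.H ((CohTop.Rpush f.base i).obj (Coh.toAb F)) (q + 1)) := fun i q =>
    subsingleton_H_rpushAb i (q + 1) (CurvLib.subsingleton_HH_of_support _ hT (hsupp i)
      (d := 0) (by exact_mod_cast topologicalKrullDim_le_zero_of_finite hZ hZc) (q + 1) (Nat.succ_pos q))
  refine subsingleton_fiberH_of_rpush_zero hfp hfl (fun i => ?_) s p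
  obtain ⟨e⟩ := Groth.Agent.S0494.result f.base (Coh.toAb F) (fun q j => hhigh j q) i
  haveI : Subsingleton (CohTop.H (Coh.toAb F) i) := htot i
  obtain ⟨e'⟩ := RpushLib.nonempty_toAb_rpush_iso f F i
  haveI : Subsingleton (((CohTop.Rpush f.base i).obj (Coh.toAb F)).obj.obj (op ⊤)) := e.symm.toEquiv.subsingleton
  refine isZero_of_finite_support _ hZ hZc (hsupp i) ?_
  exact ((((sheafToPresheaf _ _).mapIso e').app (op ⊤)).addCommGroupIsoToAddEquiv.toEquiv.subsingleton_congr).2
    ‹Subsingleton (((CohTop.Rpush f.base i).obj (Coh.toAb F)).obj.obj (op ⊤))›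

/-- Fibre cohomology along a retraction of the fibre inclusion. -/
theorem subsingleton_fiberH_iff_of_section {Y P T : Scheme.{u}} (f : P ⟶ T) (s : T) (F : P.Modules)
    (j : Y ⟶ P) (r : P ⟶ Y) (c : Y ⟶ Spec (T.residueField s)) (hc : j ≫ f = c ≫ T.fromSpecResidueField s)
    (hjr : j ≫ r = 𝟙 Y) (hr : f.fiberι s ≫ r ≫ j = f.fiberι s) (p : ℕ) :
    Subsingleton (CohIII.fiberH f F s p) ↔ Subsingleton (Coh.HH Y ((Scheme.Modules.pullback j).obj F) p) := by
  let g : Y ⟶ f.fiber s := pullback.lift j c hc
  have hg : g ≫ f.fiberι s = j := pullback.lift_fst _ _ _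
  let t : f.fiber s ⟶ Y := f.fiberι s ≫ r
  haveI : Mono (f.fiberι s) := inferInstanceAs (Mono (pullback.fst f (T.fromSpecResidueField s)))
  have htg : t ≫ g = 𝟙 _ := by
    rw [← cancel_mono (f.fiberι s), Category.assoc, hg, Category.id_comp]
    exact (Category.assoc _ _ _).trans hr
  have hgt : g ≫ t = 𝟙 Y := (Category.assoc _ _ _).symm.trans ((congrArg (· ≫ r) hg).trans hjr)
  constructor
  · intro h
    refine LerayLowLib.subsingleton_HH_of_section t g hgt _ p ?_
    exact SerreVanLib.subsingleton_HH_of_iso ((Scheme.Modules.pullbackComp t j).app F ≪≫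
      (Scheme.Modules.pullbackCongr ((Category.assoc _ _ _).trans hr)).app F) p h
  · intro h
    refine LerayLowLib.subsingleton_HH_of_section g t htg _ p ?_
    exact SerreVanLib.subsingleton_HH_of_iso ((Scheme.Modules.pullbackComp g (f.fiberι s)).app F ≪≫
      (Scheme.Modules.pullbackCongr hg).app F) p h

end AVVanishLib
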