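import Groth.Agent.LerayLowLib.Basic
import Groth.Agent.LerayLowLib.PullId
import Groth.Agent.CubeConsLib.Invariant
import Groth.Agent.CohCmpLib.CanonApps
import Groth.Agent.CohCmpLib.SectionPair
import Groth.Agent.CurvLib.EulerTensor
import Groth.Agent.S0927
import Groth.Agent.S0033
import Groth.Agent.S0036
import Groth.Agent.CurvLib.Line
import Groth.Agent.CurveVBLib.Basic

/-!
A non-trivial translation-invariant class on an abelian variety has no cohomology.
-/

set_option autoImplicit false
set_option maxHeartbeats 1000000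
set_option backward.isDefEq.respectTransparency false
set_option linter.style.haveILetI false

universe u

open CategoryTheory CategoryTheory.Limits MonoidalCategory CartesianMonoidalCategory MonObj AlgebraicGeometry
open TopologicalSpace
open CubeConsLib

namespace AVVanishLib

section Free

variable {X : Scheme.{u}}

/-- A module twisted by a free one has no sections if the module has none. -/
theorem subsingleton_hom_tensor_freeMod {M : X.Modules} (h : Subsingleton (Coh.structureModule X ⟶ M)) :
    ∀ n : ℕ, Subsingleton (Coh.structureModule X ⟶ CohB1.tensorMod M (FlatMod.freeMod X n))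
  | 0 => by
    have hz : IsZero (CohB1.tensorMod M (FlatMod.freeMod X 0)) :=
      Functor.map_isZero ((DCoh.tensorBi (X := X)).obj M) (by
        rw [IsZero.iff_id_eq_zero]
        exact Sigma.hom_ext _ _ fun i => i.elim0)
    exact ⟨fun a b => hz.eq_of_tgt a b⟩
  | n + 1 => by
    haveI : Limits.PreservesBinaryBiproduct (Coh.structureModule X) (FlatMod.freeMod X n)
        ((DCoh.tensorBi (X := X)).obj M) :=
      preservesBinaryBiproduct_of_preservesBinaryProduct _
    let e : CohB1.tensorMod M (FlatMod.freeMod X (n + 1)) ≅ M ⊞ CohB1.tensorMod M (FlatMod.freeMod X n) :=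
      ((DCoh.tensorBi (X := X)).obj M).mapIso (CurvLib.freeModSucc X n) ≪≫
      (((DCoh.tensorBi (X := X)).obj M).mapBiprod _ _) ≪≫
      biprod.mapIso (KFlatLib.tensSwap (Coh.structureModule X) M) (Iso.refl _) ≪≫
      biprod.mapIso (KFlatLib.tensUnitIso M) (Iso.refl _)
    haveI := h
    haveI := subsingleton_hom_tensor_freeMod h n
    exact ⟨fun a b => (cancel_mono e.hom).1 (biprod.hom_ext _ _ (Subsingleton.elim _ _) (Subsingleton.elim _ _))⟩

theorem subsingleton_HH_zero_iff (M : X.Modules) :
    Subsingleton (Coh.HH X M 0) ↔ Subsingleton (Coh.structureModule X ⟶ M) :=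
  ((CohCmpLib.h0E M).toEquiv.subsingleton_congr).trans (KFlatLib.unitSecEquiv M).symm.subsingleton_congr

theorem rpushAb_isZero {Y : Scheme.{u}} (q : X ⟶ Y) (F : X.Modules) (i : ℕ) [HasInjectiveResolutions X.Modules]
    (h : IsZero ((Coh.Rpush q i).obj F)) : IsZero ((CohTop.Rpush q.base i).obj (Coh.toAb F)) := by
  obtain ⟨e⟩ := RpushLib.nonempty_toAb_rpush_iso q F i
  exact (Functor.map_isZero (QCohLib.toAbF Y) h).of_iso e.symm

theorem subsingleton_H_of_isZero {Y : TopCat.{u}} {G : CohTop.Ab Y} (h : IsZero G) (p : ℕ) :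
    Subsingleton (CohTop.H G p) :=
  subsingleton_of_forall_eq 0 fun x => by
    have h1 : Sheaf.H.map (𝟙 G) p x = x := Sheaf.H.map_id_apply x
    have h2 : (𝟙 G : G ⟶ G) = 0 := h.eq_of_src _ _
    rw [h2] at h1
    rw [← h1]
    show Abelian.Ext.comp x (Abelian.Ext.mk₀ (0 : G ⟶ G)) (add_zero p) = 0
    rw [Abelian.Ext.mk₀_zero, Abelian.Ext.comp_zero]

/-- The low edge: cohomology vanishes in degree `k`. -/
theorem subsingleton_HH_of_rpush {Y : Scheme.{u}} (q : X ⟶ Y) (F : X.Modules) (k : ℕ)
    [HasInjectiveResolutions X.Modules] (hlow : ∀ i, i < k → IsZero ((Coh.Rpush q i).obj F))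
    (htop : Subsingleton (Coh.structureModule Y ⟶ (Coh.Rpush q k).obj F)) : Subsingleton (Coh.HH X F k) := by
  refine LerayLowLib.subsingleton_H_of_antidiagonal q.base (Coh.toAb F) k fun p i hpi => ?_
  rcases lt_or_eq_of_le (show i ≤ k by omega) with hi | hi
  · exact subsingleton_H_of_isZero (rpushAb_isZero q F i (hlow i hi)) p
  · obtain rfl : p = 0 := by omega
    subst hi
    obtain ⟨e⟩ := RpushLib.nonempty_toAb_rpush_iso q F i
    haveI : Subsingleton (Coh.HH Y ((Coh.Rpush q i).obj F) 0) := (subsingleton_HH_zero_iff _).2 htop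
    exact Function.Injective.subsingleton (f := Sheaf.H.map e.inv 0) fun a b hab => by
      have := congrArg (Sheaf.H.map e.hom 0) hab
      rw [← Sheaf.H.map_comp_apply, ← Sheaf.H.map_comp_apply, e.inv_hom_id, Sheaf.H.map_id_apply,
        Sheaf.H.map_id_apply] at this
      exact this

/-- Over a point the higher direct image vanishes with the cohomology. -/
theorem isZero_rpush_point {K : Type u} [Field K] (a : X ⟶ Spec (CommRingCat.of K)) [IsProper a]
    [HasInjectiveResolutions X.Modules] {M : X.Modules} (hM : PicF.IsInvertible M) (i : ℕ)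
    (h : Subsingleton (Coh.HH X M i)) : IsZero ((Coh.Rpush a i).obj M) := by
  haveI : LocallyOfFinitePresentation a := LocallyOfFinitePresentation.iff_locallyOfFiniteType.2 inferInstance
  haveI : Flat a := inferInstance
  obtain ⟨hq, hfp, hfl⟩ := CohCmpLib.rank_one_hyps a ((CohCmpLib.invertible_iff_rank_one M).1 hM)
  haveI := hq
  refine CohCmpLib.isZero_rpush_of_fibre hfp hfl i fun y => ?_
  let t := (Spec (CommRingCat.of K)).fromSpecResidueField y
  haveI : Surjective t := ⟨fun z => ⟨IsLocalRing.closedPoint _,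
    (Scheme.fromSpecResidueField_apply _ _).trans (Subsingleton.elim (α := PrimeSpectrum K) _ _)⟩⟩
  haveI : IsClosedImmersion t := IsClosedImmersion.of_isPreimmersion _
    (by rw [Set.range_eq_univ.2 t.surjective]; exact isClosed_univ)
  haveI : IsIso t := isIso_of_isClosedImmersion_of_surjective t
  haveI : IsIso (a.fiberι y) := inferInstanceAs (IsIso (pullback.fst a t))
  refine LerayLowLib.subsingleton_HH_of_section (inv (a.fiberι y)) (a.fiberι y) (IsIso.hom_inv_id _) _ i ?_
  exact SerreVanLib.subsingleton_HH_of_iso ((Scheme.Modules.pullbackComp _ _).app M ≪≫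
    (Scheme.Modules.pullbackCongr (IsIso.inv_hom_id _)).app M ≪≫ (Scheme.Modules.pullbackId X).app M) i h

end Free

variable {K : Type u} [Field K] {A : Over (Spec (CommRingCat.of K))} [GrpObj A] [IsProper A.hom]
  [GeometricallyIntegral A.hom] {M : A.left.Modules} {hM : PicF.IsInvertible M}

omit [IsProper A.hom] [GeometricallyIntegral A.hom] in
theorem P_inv (hadd : IsAdditive hM) : P hM (𝟙 A)⁻¹ = -clA hM := by
  have h := hadd.map_mul (𝟙 A) (𝟙 A)⁻¹
  rw [mul_inv_cancel, P_zero, P_id] at h
  rw [eq_neg_iff_add_eq_zero, add_comm]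
  exact h.symm

/-- A non-trivial invariant class has no sections. -/
theorem subsingleton_sections (hadd : IsAdditive hM) (hnt : ¬ Nonempty (M ≅ Coh.structureModule A.left)) :
    Subsingleton (Coh.structureModule A.left ⟶ M) := by
  refine subsingleton_of_forall_eq 0 fun s => ?_
  by_contra hs
  haveI : IsIntegral A.left := GeometricallyIntegral.isIntegral_of_subsingleton A.hom
  have hfield := isField_of_universallyClosed K A.hom
  let j := ((𝟙 A)⁻¹ : A ⟶ A)
  have hjj : j ≫ j = 𝟙 A := by
    rw [GrpObj.comp_inv, Category.comp_id, inv_inv]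
  have hjl : j.left ≫ j.left = 𝟙 A.left := by rw [← Over.comp_left, hjj]; rfl
  let M' := (Scheme.Modules.pullback j.left).obj M
  have hM' : PicF.IsInvertible M' := AmpleDevLib.isInvertible_pb _ hM
  let t : Coh.structureModule A.left ⟶ M' :=
    (KFlatLib.pullUnitIso j.left).inv ≫ (Scheme.Modules.pullback j.left).map s
  have ht : t ≠ 0 := fun h0 => hs (by
    have h1 : (Scheme.Modules.pullback j.left).map s = 0 := by
      rw [← cancel_epi (KFlatLib.pullUnitIso j.left).inv, Limits.comp_zero]
      exact h0
    let φ := Scheme.Modules.pullbackComp j.left j.left ≪≫ Scheme.Modules.pullbackCongr hjl ≪≫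
      Scheme.Modules.pullbackId A.left
    have h2 := φ.hom.naturality s
    rw [Functor.comp_map, h1, Functor.map_zero, Limits.zero_comp] at h2
    exact ((cancel_epi (φ.hom.app _)).1 (h2.symm.trans Limits.comp_zero.symm) : s = 0))
  have e : Nonempty (CohB1.tensorMod M M' ≅ Coh.structureModule A.left) := by
    rw [← clA_eq_iff (HilbPolyLib.isInvertible_tensor hM hM') (isInvertible_one _), clA_tensor hM hM', clA_one,
      show clA hM' = P hM j from (P_eq hM j).symm, P_inv hadd, add_neg_cancel]
  exact hnt (CohCmpLib.nonempty_iso_of_inverse_pair hfield hM e.some s hs t ht)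

/-- A non-trivial translation-invariant class has no cohomology at all. -/
theorem subsingleton_HH (hadd : IsAdditive hM) (hnt : ¬ Nonempty (M ≅ Coh.structureModule A.left)) (k : ℕ) :
    Subsingleton (Coh.HH A.left M k) := by
  have hsec := subsingleton_sections hadd hnt
  induction k using Nat.strong_induction_on with
  | _ k ih =>
    let q := (snd A A).left
    let p := (fst A A).left
    let a := A.hom
    have hsq : IsPullback p q a a := IsPullback.of_hasPullback A.hom A.hom
    haveI : IsLocallyNoetherian A.left := LocallyOfFiniteType.isLocallyNoetherian A.hom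
    haveI : IsProper q := MorphismProperty.of_isPullback hsq ‹_›
    haveI : Flat a := inferInstance
    haveI : Coh.IsQCoh M := (CurvLib.isCoh_of_isInvertible hM).1
    let Mp := (Scheme.Modules.pullback p).obj M
    let Mq := (Scheme.Modules.pullback q).obj M
    let Fm := CohB1.tensorMod Mq Mp
    have hfree : ∀ i : ℕ, ∃ r : ℕ, (Subsingleton (Coh.HH A.left M i) → IsZero ((Coh.Rpush q i).obj Mp)) ∧
        Nonempty ((Coh.Rpush q i).obj Mp ≅ FlatMod.freeMod A.left r) := by
      intro i
      have hc : Coh.IsCoh ((Coh.Rpush a i).obj M) :=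
        Groth.Agent.S0036.result a M (CurvLib.isCoh_of_isInvertible hM) i
      haveI := hc.1
      obtain ⟨r, ⟨e⟩⟩ := CohCmpLib.exists_freeMod_iso_of_field K ((Coh.Rpush a i).obj M) hc.2
      obtain ⟨e'⟩ := Groth.Agent.S0033.result a a p q hsq M i
      refine ⟨r, fun hsub => ?_, ⟨e'.symm ≪≫ (Scheme.Modules.pullback a).mapIso e ≪≫ KFlatLib.pullFreeIso a r⟩⟩
      exact (Functor.map_isZero (Scheme.Modules.pullback a) (isZero_rpush_point a hM i hsub)).of_iso e'.symm
    have hF : ∀ i, Nonempty ((Coh.Rpush q i).obj Fm ≅ CohB1.tensorMod M ((Coh.Rpush q i).obj Mp)) := fun i =>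
      ⟨(Groth.Agent.S0927.result q Mp M (CurveVBLib.isFinLocFree_of_rank (CurvLib.locFree_of_isInvertible hM)) i).some.symm⟩
    have hFm : Subsingleton (Coh.HH (A ⊗ A).left Fm k) := by
      refine subsingleton_HH_of_rpush q Fm k (fun i hi => ?_) ?_
      · obtain ⟨r, hr, -⟩ := hfree i
        obtain ⟨e'⟩ := hF i
        exact IsZero.of_iso (Functor.map_isZero ((DCoh.tensorBi (X := A.left)).obj M) (hr (ih i hi))) e' 
      · obtain ⟨r, -, ⟨e⟩⟩ := hfree k
        obtain ⟨e'⟩ := hF k
        haveI := subsingleton_hom_tensor_freeMod hsec r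
        exact ⟨fun u v => (cancel_mono (e' ≪≫ HilbPolyLib.congrRight M e).hom).1 (Subsingleton.elim _ _)⟩
    refine LerayLowLib.subsingleton_HH_of_section (μ : A ⊗ A ⟶ A).left (lift (𝟙 A) (toUnit A ≫ η)).left ?_ M k ?_
    · rw [← Over.comp_left]
      have : lift (𝟙 A) (toUnit A ≫ η) ≫ μ = 𝟙 A := by
        rw [← Hom.one_def, ← Hom.mul_def, _root_.mul_one]
      rw [this]
      rfl
    · have he : Nonempty ((Scheme.Modules.pullback (μ : A ⊗ A ⟶ A).left).obj M ≅ Fm) := by
        rw [← clA_eq_iff (AmpleDevLib.isInvertible_pb _ hM)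
          (HilbPolyLib.isInvertible_tensor (AmpleDevLib.isInvertible_pb _ hM) (AmpleDevLib.isInvertible_pb _ hM)),
          clA_tensor (AmpleDevLib.isInvertible_pb _ hM) (AmpleDevLib.isInvertible_pb _ hM),
          ← P_eq hM, ← P_eq hM, ← P_eq hM,
          show (μ : A ⊗ A ⟶ A) = fst A A * snd A A by rw [Hom.mul_def, lift_fst_snd, Category.id_comp]]
        exact hadd.trans (add_comm _ _)
      exact SerreVanLib.subsingleton_HH_of_iso he.some k hFm

end AVVanishLib
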