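import Groth.Agent.AVVanishLib.PhiSurj
import Groth.Agent.AVVanishLib.AlgZero
import Groth.Agent.AVAmpleLib.KLPoints
import Groth.Agent.AVAmpleLib.SubAV
import Groth.Agent.AVAmpleLib.Exist
import Groth.Agent.CubeConsLib.Torsion
import Groth.Agent.AmpleDevLib.Pull
import Groth.Agent.S19476

/-!
The image of `φ_H` and the transpose of a homomorphism on `Pic⁰`.
-/

set_option autoImplicit false
set_option maxHeartbeats 1000000
set_option maxRecDepth 8000
set_option backward.isDefEq.respectTransparency false
set_option linter.style.haveILetI false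

universe u

open CategoryTheory CategoryTheory.Limits MonoidalCategory CartesianMonoidalCategory MonObj AlgebraicGeometry
open TopologicalSpace
open CubeConsLib

namespace AVVanishLib

variable {K : Type u} [Field K] [IsAlgClosed K] {A B X Y : Over (Spec (CommRingCat.of K))} [GrpObj B]
  [IsProper B.hom] [GeometricallyIntegral B.hom] {L : B.left.Modules} {hL : PicF.IsInvertible L}

local notation "pts" Y:max => 𝟙_ (Over (Spec (CommRingCat.of K))) ⟶ Y

variable (hL) in
/-- The slices on which `lam` vanishes form the points of a closed set. -/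
theorem exists_closed_lam_zero [IsProper X.hom] [GeometricallyIntegral X.hom] [LocallyOfFiniteType Y.hom]
    [IsSeparated Y.hom]
    (f : X ⟶ B) (g : Y ⟶ B) :
    ∃ C : Set Y.left, IsClosed C ∧ ∀ y : pts Y, AVAmpleLib.pt y ∈ C ↔ lam hL f (toUnit X ≫ y ≫ g) = 0 := by
  let p := (snd X Y).left
  haveI : LocallyOfFinitePresentation X.hom := LocallyOfFinitePresentation.iff_locallyOfFiniteType.2 inferInstance
  haveI : Flat X.hom := inferInstance
  have hsq : IsPullback (fst X Y).left p X.hom Y.hom := IsPullback.of_hasPullback X.hom Y.hom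
  haveI : IsProper p := MorphismProperty.of_isPullback hsq ‹_›
  haveI : Flat p := MorphismProperty.of_isPullback hsq ‹_›
  haveI : LocallyOfFinitePresentation p := MorphismProperty.of_isPullback hsq ‹_›
  haveI : GeometricallyIntegral p := inferInstanceAs (GeometricallyIntegral (Limits.pullback.snd X.hom Y.hom))
  haveI : IsLocallyNoetherian Y.left := LocallyOfFiniteType.isLocallyNoetherian Y.hom
  have h₀ := AmpleDevLib.isInvertible_pb ((fst X Y ≫ f) * (snd X Y ≫ g)).left hL
  have h₁ := AmpleDevLib.isInvertible_pb (fst X Y ≫ f).left hL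
  have h₂ := AmpleDevLib.isInvertible_pb (snd X Y ≫ g).left hL
  have hd := HilbPolyLib.isInvertible_tensor h₀ (MiscFlat6.dual_isInvertible h₁)
  obtain ⟨D, hD, cD⟩ : ∃ (D : (X ⊗ Y).left.Modules) (hD : PicF.IsInvertible D),
      clA hD = lam hL (fst X Y ≫ f) (snd X Y ≫ g) :=
    ⟨_, HilbPolyLib.isInvertible_tensor hd (MiscFlat6.dual_isInvertible h₂), by
      rw [clA_tensor hd (MiscFlat6.dual_isInvertible h₂), clA_tensor h₀ (MiscFlat6.dual_isInvertible h₁),
        clA_dual h₁, clA_dual h₂, lam, P_eq hL, P_eq hL, P_eq hL]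
      abel⟩
  obtain ⟨Z, iz, hiz, hZ⟩ := Groth.Agent.S19476.result p D ((CohCmpLib.invertible_iff_rank_one D).1 hD)
  refine ⟨Set.range iz, iz.isClosedEmbedding.isClosed_range, fun y => ?_⟩
  let j : X ⟶ X ⊗ Y := lift (𝟙 X) (toUnit X ≫ y)
  have hslice : pullA j.left (clA hD) = lam hL f (toUnit X ≫ y ≫ g) := by
    rw [cD, pullA_lam, lift_fst_assoc, lift_snd_assoc, Category.id_comp, Category.assoc]
  have hb : y.left ≫ Y.hom = 𝟙 _ := Over.w y
  let y' : Spec (CommRingCat.of K) ⟶ Y.left := y.left
  have hjw : j.left ≫ p = X.hom ≫ y.left := by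
    show j.left ≫ (snd X Y).left = _
    rw [← Over.comp_left, lift_snd, Over.comp_left]
    rfl
  constructor
  · rintro ⟨z, hz⟩
    haveI : LocallyOfFiniteType (iz ≫ Y.hom) := inferInstance
    have hzc : IsClosed ({z} : Set Z) := by
      have h1 : IsClosed ({AVAmpleLib.pt y} : Set Y.left) := AVRigidLib.isClosed_pt y
      have h2 : ({z} : Set Z) = iz ⁻¹' {AVAmpleLib.pt y} := Set.ext fun z' =>
        ⟨fun e => (congrArg iz e).trans hz, fun e => iz.isClosedEmbedding.injective (e.trans hz.symm)⟩
      rw [h2]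
      exact h1.preimage iz.continuous
    let u : Spec (CommRingCat.of K) ⟶ Z := pointOfClosedPoint (iz ≫ Y.hom) z hzc
    have hu : u ≫ iz = y.left := ext_of_apply_closedPoint_eq Y.hom
      ((Category.assoc _ _ _).trans (pointOfClosedPoint_comp _ _ _)) hb (by
        rw [Scheme.Hom.comp_apply, pointOfClosedPoint_apply]
        exact hz)
    obtain ⟨N, hN, ⟨e⟩⟩ := (hZ _ y' inferInstance).1 ⟨u, hu⟩
    have e0 : pullA (Limits.pullback.fst p y') (clA hD) = 0 := by
      rw [pullA_clA _ hD, ← clA_one, clA_eq_iff]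
      haveI : Subsingleton (Spec (CommRingCat.of K) : Scheme.{u}) := inferInstanceAs (Subsingleton (PrimeSpectrum K))
      obtain ⟨i⟩ := CohCmpLib.nonempty_iso_structureModule_of_point hN
      exact ⟨e ≪≫ (Scheme.Modules.pullback _).mapIso i ≪≫ KFlatLib.pullUnitIso _⟩
    let c : X.left ⟶ Limits.pullback p y' := Limits.pullback.lift j.left X.hom hjw
    have := congrArg (pullA c) e0
    rw [pullA_comp, Limits.pullback.lift_fst, map_zero, hslice] at this
    exact this
  · intro h
    obtain ⟨u, hu⟩ := (hZ _ y' inferInstance).2 ⟨Coh.structureModule _, CohCmpLib.rank_one_structureModule _, by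
      let c : Limits.pullback p y' ⟶ X.left := Limits.pullback.fst p y' ≫ (fst X Y).left
      have hc : c ≫ j.left = Limits.pullback.fst p y' := by
        refine hsq.hom_ext ?_ ?_
        · rw [Category.assoc, ← Over.comp_left, lift_fst, Over.id_left, Category.comp_id]
        · rw [Category.assoc, hjw]
          show (Limits.pullback.fst p y' ≫ (fst X Y).left) ≫ X.hom ≫ y' = Limits.pullback.fst p y' ≫ p
          rw [Category.assoc, hsq.w_assoc]
          show Limits.pullback.fst p y' ≫ p ≫ Y.hom ≫ y' = _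
          rw [Limits.pullback.condition_assoc, reassoc_of% hb, Limits.pullback.condition]
      have e := congrArg (pullA c) (hslice.trans h)
      rw [pullA_comp, hc, map_zero, pullA_clA _ hD, ← clA_one, clA_eq_iff] at e
      exact ⟨e.some ≪≫ (KFlatLib.pullUnitIso _).symm⟩⟩
    exact ⟨u (IsLocalRing.closedPoint K), by rw [← Scheme.Hom.comp_apply, hu]; rfl⟩

variable (hL) in
/-- `lam` vanishes when all its slices do. -/
theorem lam_eq_zero_of_slices [IsProper X.hom] [GeometricallyIntegral X.hom] [LocallyOfFiniteType Y.hom]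
    [IsReduced Y.left] (f : X ⟶ B) (g : Y ⟶ B) (x : pts X) (hx : x ≫ f = 1)
    (h : ∀ y : pts Y, lam hL f (toUnit X ≫ y ≫ g) = 0) :
    lam hL (fst X Y ≫ f) (snd X Y ≫ g) = 0 := by
  let p := (snd X Y).left
  haveI : LocallyOfFinitePresentation X.hom := LocallyOfFinitePresentation.iff_locallyOfFiniteType.2 inferInstance
  haveI : Flat X.hom := inferInstance
  have hsq : IsPullback (fst X Y).left p X.hom Y.hom := IsPullback.of_hasPullback X.hom Y.hom
  haveI : IsProper p := MorphismProperty.of_isPullback hsq ‹_›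
  haveI : Flat p := MorphismProperty.of_isPullback hsq ‹_›
  haveI : GeometricallyIntegral p := inferInstanceAs (GeometricallyIntegral (Limits.pullback.snd X.hom Y.hom))
  haveI : IsLocallyNoetherian Y.left := LocallyOfFiniteType.isLocallyNoetherian Y.hom
  haveI : JacobsonSpace Y.left := LocallyOfFiniteType.jacobsonSpace Y.hom
  have h₀ := AmpleDevLib.isInvertible_pb ((fst X Y ≫ f) * (snd X Y ≫ g)).left hL
  have h₁ := AmpleDevLib.isInvertible_pb (fst X Y ≫ f).left hL
  have h₂ := AmpleDevLib.isInvertible_pb (snd X Y ≫ g).left hL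
  have h₁₂ := HilbPolyLib.isInvertible_tensor h₁ h₂
  obtain ⟨N, hN, hiso⟩ := seesaw_closedPoints p h₀ h₁₂ fun y hy => by
    let b : pts Y := Over.homMk (pointOfClosedPoint Y.hom y hy) (pointOfClosedPoint_comp Y.hom y hy)
    let j : X ⟶ X ⊗ Y := lift (𝟙 X) (toUnit X ≫ b)
    have ha : Y.left.fromSpecResidueField y = (Y.left.fromSpecResidueField y ≫ Y.hom) ≫ b.left := by
      show _ = _ ≫ pointOfClosedPoint Y.hom y hy
      rw [pointOfClosedPoint, ← SpecMap_residueFieldIsoBase_inv Y.hom y hy, ← Category.assoc, ← Spec.map_comp,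
        Iso.hom_inv_id, Spec.map_id, Category.id_comp]
    let c := Limits.pullback.fst p (Y.left.fromSpecResidueField y) ≫ (fst X Y).left
    have hc : c ≫ j.left = Limits.pullback.fst p (Y.left.fromSpecResidueField y) := by
      refine hsq.hom_ext ?_ ?_
      · rw [Category.assoc, ← Over.comp_left, lift_fst, Over.id_left, Category.comp_id]
      · rw [Category.assoc]
        change c ≫ (j ≫ snd X Y).left = _
        rw [lift_snd, Over.comp_left]
        change c ≫ X.hom ≫ b.left = _
        rw [← Category.assoc c, Category.assoc (Limits.pullback.fst p _), hsq.w, ← Category.assoc (Limits.pullback.fst p _),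
          Limits.pullback.condition, Category.assoc, Category.assoc]
        exact ((congrArg (Limits.pullback.snd p _ ≫ ·) ha).trans (by simp only [Category.assoc])).symm
    have key : pullA j.left (clA h₀) = pullA j.left (clA h₁₂) := by
      have e := h b
      rw [lam, sub_sub, sub_eq_zero] at e
      rw [clA_tensor h₁ h₂, ← P_eq hL, ← P_eq hL, ← P_eq hL, map_add, pullA_P, pullA_P, pullA_P, MonObj.comp_mul,
        lift_fst_assoc, lift_snd_assoc, Category.id_comp, Category.assoc, e]
    have key' := congrArg (pullA c) key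
    rw [pullA_comp, pullA_comp, hc, pullA_clA _ h₀, pullA_clA _ h₁₂, clA_eq_iff] at key'
    exact key'
  have hN' : PicF.IsInvertible ((Scheme.Modules.pullback p).obj N) := AmpleDevLib.isInvertible_pb _ hN
  rw [← clA_eq_iff h₀ (HilbPolyLib.isInvertible_tensor h₁₂ hN'), clA_tensor h₁₂ hN', clA_tensor h₁ h₂, ← P_eq hL,
    ← P_eq hL, ← P_eq hL, ← pullA_clA p hN] at hiso
  have e := congrArg (pullA (lift (toUnit Y ≫ x) (𝟙 Y)).left) hiso
  rw [map_add, map_add, pullA_P, pullA_P, pullA_P, pullA_comp, MonObj.comp_mul, lift_fst_assoc, lift_snd_assoc,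
    Category.id_comp, ← Over.comp_left, lift_snd, Over.id_left, pullA_id, Category.assoc, hx, MonObj.comp_one,
    _root_.one_mul, P_zero hL, zero_add, left_eq_add] at e
  rw [lam, hiso, e, map_zero]
  abel

omit [IsAlgClosed K] in
/-- A translate minus the class itself is algebraically equivalent to zero. -/
theorem isAlgEquivZero_phi (b : pts B) {N : B.left.Modules} (hN : PicF.IsInvertible N)
    (h : clA hN = P hL (AVAmpleLib.tR b) - clA hL) : Pic13.IsAlgEquivZero K B.left N := by
  have h₀ := AmpleDevLib.isInvertible_pb (fst B B * snd B B).left hL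
  have h₁ := AmpleDevLib.isInvertible_pb (fst B B).left hL
  obtain ⟨F, hF, cF⟩ : ∃ (F : (B ⊗ B).left.Modules) (hF : PicF.IsInvertible F),
      clA hF = P hL (fst B B * snd B B) - P hL (fst B B) :=
    ⟨_, HilbPolyLib.isInvertible_tensor h₀ (MiscFlat6.dual_isInvertible h₁), by
      rw [clA_tensor h₀ (MiscFlat6.dual_isInvertible h₁), clA_dual h₁, P_eq hL, P_eq hL, sub_eq_add_neg]⟩
  haveI : IsIntegral B.left := GeometricallyIntegral.isIntegral_of_subsingleton B.hom
  have hs : ∀ (a : pts B) (ht : a.left ≫ B.hom = 𝟙 _),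
      Pic13.sliceAt K B.left B.hom a.left ht = (lift (𝟙 B) (toUnit B ≫ a)).left := fun a ht => by
    refine Limits.pullback.hom_ext ?_ ?_
    · refine (Limits.pullback.lift_fst _ _ _).trans ?_
      show _ = (lift (𝟙 B) (toUnit B ≫ a)).left ≫ (fst B B).left
      rw [← Over.comp_left, lift_fst]
      rfl
    · refine (Limits.pullback.lift_snd _ _ _).trans ?_
      show _ = (lift (𝟙 B) (toUnit B ≫ a)).left ≫ (snd B B).left
      rw [← Over.comp_left, lift_snd, Over.comp_left]
      rfl
  have hsl : ∀ a : pts B, pullA (lift (𝟙 B) (toUnit B ≫ a)).left (clA hF) = P hL (AVAmpleLib.tR a) - clA hL :=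
    fun a => by rw [cF, map_sub, pullA_P, pullA_P, MonObj.comp_mul, lift_fst, lift_snd, P_id]
  refine ⟨B.left, B.hom, inferInstance, inferInstance, inferInstance, F, hF, b.left, (1 : pts B).left,
    Over.w b, Over.w (1 : pts B), ?_, ?_⟩
  · show Nonempty ((Scheme.Modules.pullback (Pic13.sliceAt K B.left B.hom b.left _)).obj F ≅ N)
    rw [hs b, ← clA_eq_iff (AmpleDevLib.isInvertible_pb _ hF) hN, ← pullA_clA _ hF, hsl, h]
  · show Nonempty ((Scheme.Modules.pullback (Pic13.sliceAt K B.left B.hom (1 : pts B).left _)).obj F ≅ _)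
    rw [hs 1, ← clA_eq_iff (AmpleDevLib.isInvertible_pb _ hF) (isInvertible_one _), ← pullA_clA _ hF, hsl,
      AVAmpleLib.tR_one, P_id, sub_self, clA_one]

/-- A finite set of closed points makes an irreducible variety a point. -/
theorem dim_eq_zero_of_finite_pts [LocallyOfFiniteType Y.hom] [IsSeparated Y.hom] [IrreducibleSpace Y.left]
    (h : (Set.univ : Set (pts Y)).Finite) : topologicalKrullDim Y.left = 0 := by
  haveI : JacobsonSpace Y.left := LocallyOfFiniteType.jacobsonSpace Y.hom
  let Z : Set Y.left := closedPoints Y.left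
  have hZ : Z.Finite := (h.image fun a : pts Y => AVAmpleLib.pt a).subset fun z hz =>
    ⟨Over.homMk (pointOfClosedPoint Y.hom z hz) (pointOfClosedPoint_comp _ _ _), trivial,
      pointOfClosedPoint_apply Y.hom z hz _⟩
  have hu : Z = Set.univ := by
    have e : closure Z = Z := by
      refine IsClosed.closure_eq ?_
      rw [← Set.biUnion_of_singleton Z]
      exact hZ.isClosed_biUnion fun y hy => hy
    rw [← e, closure_closedPoints]
  have hd := topologicalKrullDim_le_zero_of_finite hZ fun x hx => hx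
  rw [hu, IsHomeomorph.topologicalKrullDim_eq _ (Homeomorph.Set.univ Y.left).isHomeomorph] at hd
  refine le_antisymm hd ?_
  haveI : Nonempty (IrreducibleCloseds Y.left) :=
    ⟨⟨Set.univ, IrreducibleSpace.isIrreducible_univ Y.left, isClosed_univ⟩⟩
  exact Order.krullDim_nonneg

variable [GrpObj A] [IsProper A.hom] [GeometricallyIntegral A.hom]

/-- A surjective homomorphism kills only finitely many points of the dual through `φ_L`. -/
theorem finite_lam_zero (hA : CohB1.IsAmple L) (α : A ⟶ B) [IsMonHom α] [Surjective α.left] :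
    Set.Finite {b : pts B | lam hL α (toUnit A ≫ b) = 0} := by
  by_contra hinf
  haveI := isCommMonObj_field (A := B)
  obtain ⟨D, _, j, hj, hjc, hDp, hDg, hdim, hr⟩ := AVAmpleLib.exists_subAV_of_infinite
    {b : pts B | lam hL α (toUnit A ≫ b) = 0}
    (by show lam hL α (toUnit A ≫ 1) = 0; rw [MonObj.comp_one, lam_comm, lam_one_left])
    (fun a (ha : lam hL α (toUnit A ≫ a) = 0) b (hb : lam hL α (toUnit A ≫ b) = 0) =>
      show lam hL α (toUnit A ≫ (a * b)) = 0 by
        rw [MonObj.comp_mul, lam_comm, lam_mul_left, lam_comm, ha, lam_comm, hb, add_zero])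
    (fun a (ha : lam hL α (toUnit A ≫ a) = 0) => show lam hL α (toUnit A ≫ a⁻¹) = 0 by
      rw [GrpObj.comp_inv, lam_comm, lam_inv_left, lam_comm, ha, neg_zero]) hinf
  haveI := hDp
  haveI := hDg
  haveI := hjc
  haveI : IsIntegral D.left := GeometricallyIntegral.isIntegral_of_subsingleton D.hom
  obtain ⟨C, hC, hCm⟩ := exists_closed_lam_zero hL α (𝟙 B)
  have hCd : ∀ d : pts D, lam hL α (toUnit A ≫ d ≫ j) = 0 := fun d => by
    have h1 : AVAmpleLib.pt (d ≫ j) ∈ C := closure_minimal (by
      rintro _ ⟨b, hb, rfl⟩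
      exact (hCm b).2 (by rw [Category.comp_id]; exact hb)) hC (hr ⟨_, rfl⟩)
    have h2 := (hCm (d ≫ j)).1 h1
    rwa [Category.comp_id] at h2
  have hz := lam_eq_zero_of_slices hL α j (1 : pts A) (MonObj.one_comp α) hCd
  have hfix : ∀ d : pts D,
      P (AmpleDevLib.isInvertible_pb j.left hL) (AVAmpleLib.tR d) = clA (AmpleDevLib.isInvertible_pb j.left hL) := by
    intro d
    haveI : JacobsonSpace A.left := LocallyOfFiniteType.jacobsonSpace A.hom
    obtain ⟨w, hw, hwc⟩ := nonempty_inter_closedPoints (Z := α.left ⁻¹' {AVAmpleLib.pt (d ≫ j)})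
      (by obtain ⟨x, hx⟩ := α.left.surjective (AVAmpleLib.pt (d ≫ j)); exact ⟨x, hx⟩)
      (((AVRigidLib.isClosed_pt (d ≫ j))).preimage α.left.continuous).isLocallyClosed
    obtain ⟨a, rfl⟩ := AVAmpleLib.exists_pt_eq w hwc
    have ha : a ≫ α = d ≫ j := AVRigidLib.ext_pt hw
    have e := congrArg (pullA (lift (toUnit D ≫ a) (𝟙 D)).left) hz
    rw [map_zero, pullA_lam, lift_fst_assoc, lift_snd_assoc, Category.id_comp, Category.assoc, ha, lam,
      P_const hL, sub_zero, sub_eq_zero] at e
    rw [P, ← pullA_clA j.left hL, pullA_comp, ← Over.comp_left]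
    show P hL (AVAmpleLib.tR d ≫ j) = P hL j
    rw [MonObj.mul_comp, Category.id_comp, Category.assoc, mul_comm]
    exact e
  have hAD : CohB1.IsAmple ((Scheme.Modules.pullback j.left).obj L) := AmpleDevLib.isAmple_pb j.left hL hA
  refine hdim (dim_eq_zero_of_finite_pts
    ((AVAmpleLib.finite_translationFixing (AmpleDevLib.isInvertible_pb j.left hL) hAD).subset
      fun d _ => hfix d))

/-- The pullback of `φ_L` along a homomorphism. -/
theorem pullA_phi (α : A ⟶ B) [IsMonHom α] (a : pts A) :
    pullA α.left (P hL (AVAmpleLib.tR (a ≫ α)) - clA hL) =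
      P (AmpleDevLib.isInvertible_pb α.left hL) (AVAmpleLib.tR a) - clA (AmpleDevLib.isInvertible_pb α.left hL) := by
  rw [map_sub, pullA_P, P, P, ← pullA_clA α.left hL, pullA_comp, ← Over.comp_left]
  congr 3
  rw [MonObj.comp_mul, Category.comp_id, MonObj.mul_comp, Category.id_comp]
  congr 1
  rw [← Category.assoc α, toUnit_unique (α ≫ toUnit B) (toUnit A), Category.assoc]

end AVVanishLib
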